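import Groth.Agent.Etbc.H210.DimIneq
import Groth.Agent.CycB.LocQuot
import Groth.Agent.S0539
import Groth.Agent.S0540
import Groth.Agent.S0541
import Mathlib.AlgebraicGeometry.Noetherian

/-!
# Codimension inequalities along a specialization, with strict henselizations
-/

set_option autoImplicit false
universe u
open CategoryTheory CategoryTheory.Limits AlgebraicGeometry Opposite

namespace Groth.Agent.Etbc.H210.Codim

open Groth.Agent.CycB

variable (X : Scheme.{u}) [IsLocallyNoetherian X]

/-- The dimension of the local ring as a natural number. -/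
theorem exists_codim (x : X) : ∃ c : ℕ, ringKrullDim (X.presheaf.stalk x) = c := by
  have h : ringKrullDim (X.presheaf.stalk x) ≠ ⊤ := ringKrullDim_ne_top
  have h' : ringKrullDim (X.presheaf.stalk x) ≠ ⊥ := ringKrullDim_ne_bot
  obtain ⟨c, hc⟩ := WithBot.ne_bot_iff_exists.1 h'
  rw [← hc] at h ⊢
  have : c ≠ ⊤ := fun e => h (by rw [e]; rfl)
  obtain ⟨n, hn⟩ := ENat.ne_top_iff_exists.1 this
  exact ⟨n, by rw [← hn]; rfl⟩

/-- codimension of a point of a locally Noetherian scheme, as a natural number -/
noncomputable def codim (x : X) : ℕ := (exists_codim X x).choose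

theorem ringKrullDim_stalk (x : X) : ringKrullDim (X.presheaf.stalk x) = codim X x :=
  (exists_codim X x).choose_spec

variable {X}

theorem height_ker (x y : X) (hxy : x ⤳ y) :
    (RingHom.ker (Cyc.specMap y x hxy)).height = codim X x := by
  let := (X.presheaf.stalkSpecializes hxy).hom.toAlgebra
  have hloc := LocQuot.isLocalization_stalkSpecializes hxy
  have h := IsLocalization.AtPrime.ringKrullDim_eq_height (RingHom.ker (Cyc.specMap y x hxy))
    (X.presheaf.stalk x)
  rw [ringKrullDim_stalk] at h
  exact (WithBot.coe_injective h).symm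

theorem codim_add_le (x y : X) (hxy : x ⤳ y)
    (R : Type u) [CommRing R] [IsLocalRing R] [Algebra (X.presheaf.stalk y) R]
    [IsLocalHom (algebraMap (X.presheaf.stalk y) R)]
    [Hensel.IsStrictHenselization (X.presheaf.stalk y) R] (e : ℕ)
    (he : ringKrullDim (R ⧸ (RingHom.ker (Cyc.specMap y x hxy)).map
      (algebraMap (X.presheaf.stalk y) R)) = e) :
    codim X x + e ≤ codim X y := by
  have := Groth.Agent.S0539.result (X.presheaf.stalk y) R
  have : IsNoetherianRing R := (Groth.Agent.S0540.result (X.presheaf.stalk y) R).1 inferInstance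
  have h := DimIneq.height_add_le (RingHom.ker (Cyc.specMap y x hxy)) (B := R) e he.ge
  rw [Groth.Agent.S0541.result (X.presheaf.stalk y) R, ringKrullDim_stalk, height_ker] at h
  exact_mod_cast WithBot.coe_le_coe.1 h

theorem codim_lt (x y : X) (hxy : x ⤳ y) (hne : x ≠ y) : codim X x < codim X y := by
  have h1 := height_ker x y hxy
  have h2 := height_ker y y specializes_rfl
  have hlt : RingHom.ker (Cyc.specMap y x hxy) < RingHom.ker (Cyc.specMap y y specializes_rfl) := by
    refine lt_of_le_of_ne ((LocQuot.ker_le_iff hxy specializes_rfl).2 hxy) fun h => ?_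
    exact hne ((LocQuot.ker_inj hxy specializes_rfl).1 h)
  have h3 := Ideal.height_strict_mono_of_isPrime hlt
  rw [h1, h2] at h3
  exact_mod_cast h3

/-- The reduction of the codimension bounds to a dimension function `φ = n - 2 codim`. -/
theorem exists_bound (x y : X) (hxy : x ⤳ y) (hne : x ≠ y) (n : ℕ)
    (hn : 2 * codim X y ≤ n)
    (R : Type u) [CommRing R] [IsLocalRing R] [Algebra (X.presheaf.stalk y) R]
    [IsLocalHom (algebraMap (X.presheaf.stalk y) R)]
    [Hensel.IsStrictHenselization (X.presheaf.stalk y) R] :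
    ∃ e : ℕ, ringKrullDim (R ⧸ (RingHom.ker (Cyc.specMap y x hxy)).map
      (algebraMap (X.presheaf.stalk y) R)) = e ∧
      e + 1 + (n - 2 * codim X y) ≤ n - 2 * codim X x := by
  have := Groth.Agent.S0539.result (X.presheaf.stalk y) R
  have : IsNoetherianRing R := (Groth.Agent.S0540.result (X.presheaf.stalk y) R).1 inferInstance
  have hne' : (RingHom.ker (Cyc.specMap y x hxy)).map
      (algebraMap (X.presheaf.stalk y) R) ≠ ⊤ := by
    intro h
    have h1 : (RingHom.ker (Cyc.specMap y x hxy)).map (algebraMap (X.presheaf.stalk y) R) ≤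
        IsLocalRing.maximalIdeal R := by
      refine (Ideal.map_mono (IsLocalRing.le_maximalIdeal (Ideal.IsPrime.ne_top'))).trans ?_
      exact ((IsLocalRing.local_hom_TFAE (algebraMap (X.presheaf.stalk y) R)).out 0 2).1
        (by infer_instance)
    rw [h, top_le_iff] at h1
    exact Ideal.IsPrime.ne_top' h1
  have : Nontrivial (R ⧸ (RingHom.ker (Cyc.specMap y x hxy)).map
      (algebraMap (X.presheaf.stalk y) R)) := Ideal.Quotient.nontrivial_iff.2 hne'
  have : IsLocalRing (R ⧸ (RingHom.ker (Cyc.specMap y x hxy)).map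
      (algebraMap (X.presheaf.stalk y) R)) :=
    IsLocalRing.of_surjective' (Ideal.Quotient.mk _) Ideal.Quotient.mk_surjective
  obtain ⟨e, he⟩ : ∃ e : ℕ, ringKrullDim (R ⧸ (RingHom.ker (Cyc.specMap y x hxy)).map
      (algebraMap (X.presheaf.stalk y) R)) = e := by
    have h : ringKrullDim (R ⧸ (RingHom.ker (Cyc.specMap y x hxy)).map
      (algebraMap (X.presheaf.stalk y) R)) ≠ ⊤ := ringKrullDim_ne_top
    have h' : ringKrullDim (R ⧸ (RingHom.ker (Cyc.specMap y x hxy)).map
      (algebraMap (X.presheaf.stalk y) R)) ≠ ⊥ := ringKrullDim_ne_bot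
    obtain ⟨c, hc⟩ := WithBot.ne_bot_iff_exists.1 h'
    rw [← hc] at h ⊢
    have : c ≠ ⊤ := fun e => h (by rw [e]; rfl)
    obtain ⟨n, hn⟩ := ENat.ne_top_iff_exists.1 this
    exact ⟨n, by rw [← hn]; rfl⟩
  refine ⟨e, he, ?_⟩
  have h1 := codim_add_le x y hxy R e he
  have h2 := codim_lt x y hxy hne
  omega

end Groth.Agent.Etbc.H210.Codim
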