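import Mathlib.RingTheory.Ideal.GoingDown
import Mathlib.RingTheory.Ideal.Height
import Mathlib.RingTheory.Ideal.KrullsHeightTheorem
import Mathlib.RingTheory.KrullDimension.NonZeroDivisors

/-!
# `ht p + dim B/pB ≤ dim B` for a flat (going-down) algebra
-/

set_option autoImplicit false

namespace Groth.Agent.Etbc.H210.DimIneq

open Order

/-- `height + coheight ≤ krullDim` -/
theorem height_add_coheight_le {α : Type*} [Preorder α] (a : α) :
    ((height a + coheight a : ℕ∞) : WithBot ℕ∞) ≤ krullDim α := by
  have : Nonempty α := ⟨a⟩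
  rw [krullDim_eq_iSup_height_add_coheight_of_nonempty]
  exact WithBot.coe_le_coe.2 (le_iSup (fun a : α => height a + coheight a) a)

/-- For an `A`-algebra `B` (Noetherian) with going down and a prime `p` of `A`,
`ht p + e ≤ dim B` whenever `e ≤ dim B/pB`. -/
theorem height_add_le {A B : Type*} [CommRing A] [CommRing B] [IsNoetherianRing A] [IsNoetherianRing B]
    [Algebra A B] [Algebra.HasGoingDown A B] (p : Ideal A) [p.IsPrime] (e : ℕ)
    (he : (e : WithBot ℕ∞) ≤ ringKrullDim (B ⧸ p.map (algebraMap A B))) :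
    ((p.height + e : ℕ∞) : WithBot ℕ∞) ≤ ringKrullDim B := by
  obtain ⟨l, hl⟩ := le_krullDim_iff.1 he
  let l' : LTSeries (PrimeSpectrum B) :=
    l.map (PrimeSpectrum.comap (Ideal.Quotient.mk (p.map (algebraMap A B))))
      (RingHom.strictMono_comap_of_surjective Ideal.Quotient.mk_surjective)
  have hle : p ≤ l'.head.asIdeal.under A := by
    rw [Ideal.under_def, ← Ideal.map_le_iff_le_comap]
    intro x hx
    change Ideal.Quotient.mk (p.map (algebraMap A B)) x ∈ l.head.asIdeal
    rw [Ideal.Quotient.eq_zero_iff_mem.2 hx]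
    exact zero_mem _
  have : l'.head.asIdeal.LiesOver (l'.head.asIdeal.under A) := ⟨rfl⟩
  obtain ⟨Q, hQ, hQp, hQo⟩ := Ideal.exists_ideal_le_liesOver_of_le (p := p)
    (q := l'.head.asIdeal.under A) l'.head.asIdeal hle
  have h1 : p.height ≤ Q.height := by
    rw [Ideal.height_eq_height_add_of_liesOver_of_hasGoingDown p Q]
    exact le_self_add
  have h2 : Q.height ≤ l'.head.asIdeal.height := Ideal.height_mono hQ
  have h3 : ((e : ℕ∞)) ≤ coheight l'.head := by
    have := length_le_coheight_head (p := l')
    rw [← hl]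
    exact this
  refine le_trans (WithBot.coe_le_coe.2 ?_) (height_add_coheight_le l'.head)
  rw [← PrimeSpectrum.height_eq_orderHeight]
  exact add_le_add (h1.trans h2) h3

end Groth.Agent.Etbc.H210.DimIneq
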