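import Groth.Agent.Etbc.H210.Codim
import Groth.Prelude.Def_Dix
import Groth.Prelude.Def_PBC

/-!
# Reduction of the codimension bounds (S3492) to a dimension function (S3491)
-/

set_option autoImplicit false
universe u
open CategoryTheory CategoryTheory.Limits AlgebraicGeometry Opposite

namespace Groth.Agent.Etbc.H210.Reduce

/-- The statement of S3491 for a fixed scheme and prime. -/
def DimFunVanishing (X : Scheme.{u}) (ℓ : ℕ) : Prop :=
  ∀ (φ : X → ℕ)
    (_ : ∀ x : X, Dix.CohDimLEAt (Spec (X.residueField x)) ℓ (φ x))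
    (_ : ∀ (x y : X) (hxy : x ⤳ y), x ≠ y →
      ∀ (R : Type u) [CommRing R] [IsLocalRing R] [Algebra (X.presheaf.stalk y) R]
      [IsLocalHom (algebraMap (X.presheaf.stalk y) R)] [Hensel.IsStrictHenselization (X.presheaf.stalk y) R],
      ∀ P ∈ ((RingHom.ker (Cyc.specMap y x hxy)).map (algebraMap (X.presheaf.stalk y) R)).minimalPrimes,
        ∃ d : ℕ, d + 1 + φ y ≤ φ x ∧ Dix.CohDimLEAt (Spec (CommRingCat.of (FractionRing (R ⧸ P)))) ℓ d)
    (F : EtCoh.Ab X) (_ : Dix.IsPrimaryTorsion ℓ F) (q : ℕ) (_ : ∀ x ∈ EtPBC.supp F, φ x < q),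
    Subsingleton (EtCoh.H X F q)

theorem reduce (X : Scheme.{u}) [IsLocallyNoetherian X] (ℓ : ℕ) (H : DimFunVanishing X ℓ) (n : ℕ)
    (h1 : ∀ (y : X) (c : ℕ), ringKrullDim (X.presheaf.stalk y) = c →
      2 * c ≤ n ∧ Dix.CohDimLEAt (Spec (X.residueField y)) ℓ (n - 2 * c))
    (h2 : ∀ (x y : X) (hxy : x ⤳ y), ∀ (R : Type u) [CommRing R] [IsLocalRing R] [Algebra (X.presheaf.stalk y) R]
      [IsLocalHom (algebraMap (X.presheaf.stalk y) R)] [Hensel.IsStrictHenselization (X.presheaf.stalk y) R],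
      ∀ P ∈ ((RingHom.ker (Cyc.specMap y x hxy)).map (algebraMap (X.presheaf.stalk y) R)).minimalPrimes,
        ∀ e : ℕ, ringKrullDim (R ⧸ (RingHom.ker (Cyc.specMap y x hxy)).map (algebraMap (X.presheaf.stalk y) R)) = e →
          Dix.CohDimLEAt (Spec (CommRingCat.of (FractionRing (R ⧸ P)))) ℓ e)
    (s : ℕ) (F : EtCoh.Ab X) (hF : Dix.IsPrimaryTorsion ℓ F)
    (hs : ∀ y ∈ EtPBC.supp F, (s : WithBot ℕ∞) ≤ ringKrullDim (X.presheaf.stalk y))
    (q : ℕ) (hq : n < q + 2 * s) :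
    Subsingleton (EtCoh.H X F q) := by
  have hc := Codim.ringKrullDim_stalk X
  refine H (fun z => n - 2 * Codim.codim X z) ?_ ?_ F hF q ?_
  · intro x
    exact (h1 x _ (hc x)).2
  · intro x y hxy hne R _ _ _ _ _ P hP
    obtain ⟨e, he, hle⟩ := Codim.exists_bound x y hxy hne n (h1 y _ (hc y)).1 R
    exact ⟨e, hle, h2 x y hxy R P hP e he⟩
  · intro x hx
    have h3 := hs x hx
    rw [hc x] at h3
    have h4 : s ≤ Codim.codim X x := by exact_mod_cast h3
    have h5 := (h1 x _ (hc x)).1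
    change n - 2 * Codim.codim X x < q
    omega

end Groth.Agent.Etbc.H210.Reduce
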