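import Groth.Prelude.Def_Hens2
import Groth.Agent.S0540
import Groth.Agent.CycB.LocQuot
import Groth.Agent.Etbc.H227.CdIso
import Groth.Agent.Flat2E.Thick
import Mathlib.AlgebraicGeometry.Noetherian

/-!
# The fibre of a strict localization over a generization

`X` locally Noetherian, `x y : X`, `R` a strict henselization of `O_{X,y}`,
`W = Spec κ(x) ×_X Spec R`.  `W` is a finite set of closed points, it is empty unless `x ⤳ y`, and the
residue fields of `W` are the fraction fields of `R / P`, `P` minimal over `p_x R`.
-/

set_option autoImplicit false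
universe u
open CategoryTheory CategoryTheory.Limits AlgebraicGeometry Opposite

namespace Groth.Agent.Etbc.H210.SkyFibre

open Groth.Agent.CycB

/-- Incomparability for strict henselizations. -/
theorem eq_of_le_of_comap_eq {O R : Type u} [CommRing O] [IsLocalRing O] [CommRing R] [IsLocalRing R]
    [Algebra O R] [IsLocalHom (algebraMap O R)] [Hensel.IsStrictHenselization O R]
    (P Q : Ideal R) [P.IsPrime] [Q.IsPrime] (hPQ : P ≤ Q)
    (hc : P.comap (algebraMap O R) = Q.comap (algebraMap O R)) : P = Q :=
  Groth.Agent.Hensel.EtaleNbhd.eq_of_le_of_comap_eq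
    (Groth.Agent.Hensel.Exist.isHull_of_isStrictHenselization O R).exists_etale_finset P Q hPQ hc

variable {X : Scheme.{u}} (x y : X)
  (R : Type u) [CommRing R] [Algebra (X.presheaf.stalk y) R]

/-- `Spec κ(x) ×_X Spec R` -/
noncomputable abbrev W : Scheme.{u} := pullback (X.fromSpecResidueField x) (Hens2.specOf X y R)

/-- the projection to `Spec R` -/
noncomputable abbrev proj : W x y R ⟶ Spec (CommRingCat.of R) :=
  pullback.snd (X.fromSpecResidueField x) (Hens2.specOf X y R)

theorem specOf_proj (w : W x y R) : Hens2.specOf X y R (proj x y R w) = x := by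
  rw [← Scheme.Hom.comp_apply, ← pullback.condition, Scheme.Hom.comp_apply,
    Scheme.fromSpecResidueField_apply]

/-- the prime ideal of `R` attached to a point of `W` -/
noncomputable abbrev prime (w : W x y R) : PrimeSpectrum R := proj x y R w

theorem ptOf_comap (w : W x y R) :
    LocQuot.ptOf (PrimeSpectrum.comap (algebraMap (X.presheaf.stalk y) R) (prime x y R w)) = x :=
  specOf_proj x y R w

theorem specializes (w : W x y R) : x ⤳ y := by
  have h := LocQuot.ptOf_specializes
    (PrimeSpectrum.comap (algebraMap (X.presheaf.stalk y) R) (prime x y R w))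
  rwa [ptOf_comap] at h

theorem comap_prime (w : W x y R) (hxy : x ⤳ y) :
    (prime x y R w).asIdeal.comap (algebraMap (X.presheaf.stalk y) R) =
      RingHom.ker (Cyc.specMap y x hxy) := by
  have h : PrimeSpectrum.comap (algebraMap (X.presheaf.stalk y) R) (prime x y R w) =
      LocQuot.primeOf hxy :=
    LocQuot.ptOf_injective y ((ptOf_comap x y R w).trans (LocQuot.ptOf_primeOf hxy).symm)
  rw [← LocQuot.primeOf_asIdeal, ← h]
  rfl

theorem proj_injective : Function.Injective (proj x y R) := by
  have : IsPreimmersion (proj x y R) := MorphismProperty.pullback_snd _ _ inferInstance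
  exact (proj x y R).isEmbedding.injective

/-- the residue fields of `W` -/
theorem exists_ringEquiv (w : W x y R) :
    Nonempty (FractionRing (R ⧸ (prime x y R w).asIdeal) ≃+* (W x y R).residueField w) := by
  have : IsPreimmersion (proj x y R) := MorphismProperty.pullback_snd _ _ inferInstance
  have := Groth.Agent.Flat2E.Thick.isIso_residueFieldMap_of_surjectiveOnStalks (proj x y R) w
  let e1 := (asIso ((proj x y R).residueFieldMap w)).commRingCatIsoToRingEquiv
  let e2 := (Scheme.Spec.residueFieldIso (CommRingCat.of R) (prime x y R w)).commRingCatIsoToRingEquiv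
  let e3 : FractionRing (R ⧸ (prime x y R w).asIdeal) ≃+* (prime x y R w).asIdeal.ResidueField :=
    (FractionRing.algEquiv (R ⧸ (prime x y R w).asIdeal)
      (prime x y R w).asIdeal.ResidueField).toRingEquiv
  exact ⟨e3.trans (e2.symm.trans e1)⟩

section sh

variable [IsLocalRing R] [IsLocalHom (algebraMap (X.presheaf.stalk y) R)]
  [Hensel.IsStrictHenselization (X.presheaf.stalk y) R]

theorem mem_minimalPrimes (w : W x y R) (hxy : x ⤳ y) :
    (prime x y R w).asIdeal ∈ ((RingHom.ker (Cyc.specMap y x hxy)).map
      (algebraMap (X.presheaf.stalk y) R)).minimalPrimes := by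
  have h := comap_prime x y R w hxy
  refine ⟨⟨(prime x y R w).2, Ideal.map_le_iff_le_comap.2 h.ge⟩, ?_⟩
  rintro Q ⟨hQ, hQ'⟩ hle
  have h1 : Q.comap (algebraMap (X.presheaf.stalk y) R) =
      (prime x y R w).asIdeal.comap (algebraMap (X.presheaf.stalk y) R) := by
    refine le_antisymm (Ideal.comap_mono hle) ?_
    rw [h]
    exact Ideal.map_le_iff_le_comap.1 hQ'
  exact (eq_of_le_of_comap_eq Q _ hle h1).ge

theorem finite [IsLocallyNoetherian X] : Finite (W x y R) := by
  by_cases hW : IsEmpty (W x y R)
  · infer_instance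
  obtain ⟨w₀⟩ := not_isEmpty_iff.1 hW
  have hxy := specializes x y R w₀
  have : IsNoetherianRing R := (Groth.Agent.S0540.result (X.presheaf.stalk y) R).1 inferInstance
  have hf := Ideal.finite_minimalPrimes_of_isNoetherianRing R
    ((RingHom.ker (Cyc.specMap y x hxy)).map (algebraMap (X.presheaf.stalk y) R))
  have := hf.to_subtype
  refine Finite.of_injective (β := ((RingHom.ker (Cyc.specMap y x hxy)).map
      (algebraMap (X.presheaf.stalk y) R)).minimalPrimes)
    (fun w => ⟨_, mem_minimalPrimes x y R w hxy⟩) fun w w' h => ?_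
  exact proj_injective x y R (PrimeSpectrum.ext (congrArg Subtype.val h))

theorem isClosed_singleton (w : W x y R) : IsClosed ({w} : Set (W x y R)) := by
  rw [← closure_eq_iff_isClosed]
  refine Set.Subset.antisymm (fun w' hw' => ?_) subset_closure
  have h1 : w ⤳ w' := specializes_iff_mem_closure.2 hw'
  have h2 : prime x y R w ≤ prime x y R w' :=
    (PrimeSpectrum.le_iff_specializes _ _).2 (h1.map (proj x y R).continuous)
  have hxy := specializes x y R w
  have h3 := (mem_minimalPrimes x y R w' hxy).2 (mem_minimalPrimes x y R w hxy).1 h2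
  exact proj_injective x y R (PrimeSpectrum.ext (le_antisymm h3 h2))

theorem cohDimLEAt_residueField (ℓ d : ℕ) (w : W x y R) (hxy : x ⤳ y)
    (h : ∀ P ∈ ((RingHom.ker (Cyc.specMap y x hxy)).map
      (algebraMap (X.presheaf.stalk y) R)).minimalPrimes,
      Dix.CohDimLEAt (Spec (CommRingCat.of (FractionRing (R ⧸ P)))) ℓ d) :
    Dix.CohDimLEAt (Spec ((W x y R).residueField w)) ℓ d := by
  obtain ⟨e⟩ := exists_ringEquiv x y R w
  exact H227.CdIso.cohDimLEAt_of_ringEquiv e ℓ d (h _ (mem_minimalPrimes x y R w hxy))

end sh

end Groth.Agent.Etbc.H210.SkyFibre
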